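import Cfsg.Agent.Lib.SubfieldTwisted.Main
import Cfsg.Agent.Lib.TwistedOrder.Instances

/-! The certificates for E6. -/

set_option autoImplicit false
set_option maxRecDepth 100000

namespace CfsgLib.SubfieldTwisted

open Cfsg.Lie
open CfsgLib.Chevalley hiding xG_mem_group rootsU_le_group
open CfsgLib.Twisted (fullE6 graphSigmaE6 graphEtaE6 sigmaE6 etaE6)

/-- the certificates for E6 -/
def tablesE6 : Tables where
  top := 71
  B := [[1], [3], [0, 5], [2, 4]]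
  long := [(46, [[3], [2, 4], [0, 5], [3], [2, 4], [3], [1]]), (39, [[2, 4], [0, 5], [1], [3], [2, 4], [3], [1]])]
  comm := [((18, [[3], [2, 4], [1], [3], [2, 4], [0, 5], [1], [3], [2, 4], [3], [1]]), [(54, 1), (64, -1)]), ((6, [[0, 5], [3], [2, 4], [1], [3], [2, 4], [0, 5], [1], [3], [2, 4], [3], [1]]), [(66, 1), (68, 1)])]
  w0 := [2, 4, 0, 5, 3, 2, 4, 0, 5, 1, 3, 2, 4, 0, 5, 1, 3, 2, 4, 0, 5, 1, 3, 2, 4, 0, 5, 1, 3, 2, 4, 0, 5, 1, 3, 1]
  Qs := [(50, [48, 50]), (61, [49, 61]), (62, [52, 62]), (64, [54, 64]), (67, [55, 67]), (68, [66, 68])]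
  Ql := [(46, [46]), (47, [47]), (51, [51]), (53, [53]), (63, [63]), (65, [65]), (69, [69]), (70, [70]), (71, [71])]
  l := [1, 3, 2, 4, 0, 5, 3, 2, 4, 1]
  i := 3
  tab := [(0, []), (1, [[1]]), (2, [[1], [3]]), (6, [[1], [3], [2, 4]]), (8, [[1], [3], [2, 4], [3]]), (11, [[1], [3], [2, 4], [3], [1]]), (18, [[1], [3], [2, 4], [0, 5]]), (20, [[1], [3], [2, 4], [0, 5], [3]]), (24, [[1], [3], [2, 4], [0, 5], [3], [2, 4]]), (25, [[1], [3], [2, 4], [0, 5], [3], [2, 4], [3]]), (27, [[1], [3], [2, 4], [0, 5], [3], [1]]), (32, [[1], [3], [2, 4], [0, 5], [3], [2, 4], [1]]), (39, [[1], [3], [2, 4], [0, 5], [3], [2, 4], [1], [3]]), (44, [[1], [3], [2, 4], [0, 5], [3], [2, 4], [1], [3], [2, 4]]), (46, [[1], [3], [2, 4], [0, 5], [3], [2, 4], [3], [1]]), (47, [[1], [3], [2, 4], [0, 5], [3], [2, 4], [1], [3], [1]]), (51, [[1], [3], [2, 4], [0, 5], [3], [2, 4], [1], [3], [2, 4], [1]]), (53, [[1], [3], [2, 4],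 [0, 5], [3], [2, 4], [1], [3], [2, 4], [1], [3]]), (60, [[1], [3], [2, 4], [0, 5], [3], [2, 4], [1], [3], [2, 4], [0, 5]]), (63, [[1], [3], [2, 4], [0, 5], [3], [2, 4], [1], [3], [2, 4], [0, 5], [1]]), (65, [[1], [3], [2, 4], [0, 5], [3], [2, 4], [1], [3], [2, 4], [0, 5], [1], [3]]), (69, [[1], [3], [2, 4], [0, 5], [3], [2, 4], [1], [3], [2, 4], [0, 5], [1], [3], [2, 4]]), (70, [[1], [3], [2, 4], [0, 5], [3], [2, 4], [1], [3], [2, 4], [0, 5], [1], [3], [2, 4], [3]]), (71, [[1], [3], [2, 4], [0, 5], [3], [2, 4], [1], [3], [2, 4], [0, 5], [1], [3], [2, 4], [3], [1]])]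
  e₁ := (46, 1, 1, [1, 12, 13, 26, 28, 30, 31, 46, 47, 48, 49, 50, 51, 52, 61, 62, 63, 71], [[3], [2, 4], [0, 5], [1], [3], [2, 4], [3]])
  e₂ := (70, 25, -1, [25, 40, 41, 43, 45, 53, 54, 55, 58, 59, 64, 65, 66, 67, 68, 69, 70, 71], [[1]])
  N := 1
  O := [(39, [39]), (42, [37, 42]), (46, [46]), (56, [36, 56]), (43, [40, 43]), (47, [47]), (57, [38, 57]), (44, [44]), (50, [48, 50]), (58, [41, 58]), (51, [51]), (59, [45, 59]), (61, [49, 61]), (53, [53]), (60, [60]), (62, [52, 62]), (63, [63]), (64, [54, 64]), (65, [65]), (67, [55, 67]), (68, [66, 68]), (69, [69]), (70, [70]), (71, [71])]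
  hs := (68, [66, 68])
  certs := [(42, [(39, 1)], 40), (56, [(37, 1), (42, 1)], 38), (43, [(46, 1)], 48), (57, [(39, 1)], 41), (50, [(36, 1), (56, 1)], 49), (58, [(46, 1)], 49), (59, [(46, 1)], 52), (61, [(44, 1)], 55), (62, [(39, 1)], 54), (64, [(37, 1), (42, 1)], 55), (67, [(36, 1), (56, 1)], 66)]

theorem tablesE6_ok : tablesB chevE6 graphSigmaE6 graphEtaE6 sigmaE6 etaE6 false tablesE6 = true := by
  decide +kernel

theorem weylE6_ok : weylB fullE6 tablesE6 = true := by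
  decide +kernel

end CfsgLib.SubfieldTwisted
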